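import Mathlib.AlgebraicGeometry.ProjectiveSpectrum.Functor

/-!
# `Proj.map` and the structure morphisms

`map_toSpec`: for a graded ring homomorphism `φ` compatible with the structure of `R`-algebras,
`Proj.map φ ≫ (Proj 𝒜 ⟶ Spec R) = (Proj ℬ ⟶ Spec R)`.
-/

set_option autoImplicit false
universe u v

open CategoryTheory CategoryTheory.Limits AlgebraicGeometry HomogeneousLocalization

namespace Groth.Agent.Ega2.H291.MapZero

variable {R A B : Type u} [CommRing R] [CommRing A] [Algebra R A] {𝒜 : ℕ → Submodule R A} [GradedAlgebra 𝒜]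
variable [CommRing B] [Algebra R B] {ℬ : ℕ → Submodule R B} [GradedAlgebra ℬ] (φ : 𝒜 →+*ᵍ ℬ)
  (hφ : HomogeneousIdeal.irrelevant ℬ ≤ (HomogeneousIdeal.irrelevant 𝒜).map φ)

theorem awayMap_fromZero (hR : ∀ r, φ (algebraMap R A r) = algebraMap R B r) (s : A) :
    (Away.map φ s).comp ((fromZeroRingHom 𝒜 _).comp (algebraMap R (𝒜 0))) =
      (fromZeroRingHom ℬ _).comp (algebraMap R (ℬ 0)) := by
  ext r
  change (Away.map φ s (mk _)).val = (mk _).val
  rw [Away.map]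
  erw [map_mk]
  rw [val_mk, val_mk]
  congr 1
  · exact hR r
  · exact Subtype.ext (map_one φ)

theorem awayι_map_toSpec (hR : ∀ r, φ (algebraMap R A r) = algebraMap R B r) {s : A} {d : ℕ} (hd : 0 < d)
    (hs : s ∈ 𝒜 d) : Proj.awayι ℬ (φ s) (φ.map_mem hs) hd ≫ Proj.map φ hφ ≫ Proj.toSpecZero 𝒜 ≫
        Spec.map (CommRingCat.ofHom (algebraMap R (𝒜 0))) =
      Proj.awayι ℬ (φ s) (φ.map_mem hs) hd ≫ Proj.toSpecZero ℬ ≫
        Spec.map (CommRingCat.ofHom (algebraMap R (ℬ 0))) := by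
  rw [Proj.awayι_toSpecZero_assoc, Proj.awayι_comp_map_assoc φ hφ hd _ hs, Proj.awayι_toSpecZero_assoc,
    ← Spec.map_comp, ← Spec.map_comp, ← Spec.map_comp, ← CommRingCat.ofHom_comp, ← CommRingCat.ofHom_comp,
    ← CommRingCat.ofHom_comp, awayMap_fromZero φ hR]

theorem map_toSpec (hR : ∀ r, φ (algebraMap R A r) = algebraMap R B r) :
    Proj.map φ hφ ≫ Proj.toSpecZero 𝒜 ≫ Spec.map (CommRingCat.ofHom (algebraMap R (𝒜 0))) =
      Proj.toSpecZero ℬ ≫ Spec.map (CommRingCat.ofHom (algebraMap R (ℬ 0))) := by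
  exact (Proj.mapAffineOpenCover φ hφ).openCover.hom_ext _ _ fun s => awayι_map_toSpec φ hφ hR s.1.2 s.2.2

end Groth.Agent.Ega2.H291.MapZero
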